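import Cfsg.Agent.SGn.Basic
import Cfsg.Agent.StdJ4.Asm
import Cfsg.Agent.Trans.GenFitting
import Cfsg.Agent.S0205
import Cfsg.Agent.S1347

/-!
# A standard subgroup lies in the simple generalised Fitting subgroup
-/

set_option autoImplicit false

namespace Cfsg.Lib.SGn

open Subgroup Cfsg.Lib.Gold Cfsg.Lib.Trans Cfsg.Lib.StdSz Cfsg.Lib.StdW

variable {G : Type*} [Group G] [Finite G]

theorem glue (hF : IsSimpleGroup ↥(generalizedFittingSubgroup G))
    (hF' : ¬ IsMulCommutative ↥(generalizedFittingSubgroup G)) {L : Subgroup G}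
    (hL : IsStandardSubgroup L) :
    (generalizedFittingSubgroup G).Normal ∧ Cs (generalizedFittingSubgroup G) = ⊥ ∧ oddCore G = ⊥ ∧
      L ≤ generalizedFittingSubgroup G := by
  have h1 := genFitting_normal G
  have h2 := centralizer_genFitting_le G
  have h3 := layer_le_genFitting G
  generalize generalizedFittingSubgroup G = X at *
  have k : ∀ N : Subgroup G, N.Normal → N ≤ Cs X ∨ X ≤ N := fun N _ =>
    (StdJ4.simple_inf (X := X) le_normalizer_of_normal).imp_left fun h =>
      Solv.le_centralizer_of_disjoint le_normalizer_of_normal le_normalizer_of_normal (inf_comm X N ▸ h)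
  have hX : Cs X = ⊥ := ((StdJ4.simple_inf (X := X) (N := Cs X) le_normalizer_of_normal).resolve_right fun h =>
    hF' (le_centralizer_iff_isMulCommutative.1 h)) ▸ (inf_eq_right.2 h2).symm
  rw [hX] at k
  have hO : oddCore G = ⊥ := le_bot_iff.1 ((k _ inferInstance).resolve_right fun h => hF'
    ⟨⟨IsSimpleGroup.comm_iff_isSolvable.2 (Agent.S0205.result ((Nat.coprime_two_right.1
      (Solv.coprime_card_pPrimeCore 2 G)).of_dvd_nat (card_dvd_of_le h)))⟩⟩)
  obtain ⟨⟨t, htA⟩, ht⟩ := exists_prime_orderOf_dvd_card' 2 (even_iff_two_dvd.1 hL.2.1.1)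
  rw [orderOf_mk] at ht
  refine ⟨h1, hX, hO, ?_⟩
  rcases Agent.S1347.result L hL hO t ht htA with h5 | ⟨Y, hs, -, -, h5, h6, h7, -⟩ | h5
  · refine (k L h5).elim (le_trans · bot_le) fun h6 => ?_
    rw [mem_bot.1 (hX.le (centralizer_le h6 htA)), orderOf_one] at ht
    exact absurd ht (by decide)
  · have h8 := (nontrivial_iff_ne_bot Y).1 inferInstance
    have h9 : Y ≤ layer G := h7 ▸ le_sup_left
    rw [cj_def] at h5 h6 h7
    have h10 := ((k _ (layer_normal G)).resolve_left fun h => h8 (le_bot_iff.1 (h9.trans h))).trans h7.ge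
    have h11 := (StdJ4.simple_inf (N := Y) (h10.trans (sup_le le_normalizer fun _ hb => centralizer_le_normalizer _
      (StdSz.mem_Cs.2 fun a ha => (h5 a ha _ hb).symm)))).resolve_left fun h =>
        h8 ((inf_eq_right.2 (h9.trans h3)).symm.trans h)
    exact (h8 (le_bot_iff.1 fun y hy => conj_eq_one_iff.1 (mem_bot.1 (h6.le
      ⟨h11 (Normal.conj_mem h1 y (h3 (h9 hy)) t), conj_mem_cj.2 hy⟩)))).elim
  · exact h5.1.trans h3

end Cfsg.Lib.SGn
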