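import Cfsg.Agent.StdX.Defs3

/-!
# Standard subgroups with two classes of involutions, small models: definitions
-/

set_option autoImplicit false

namespace Cfsg.Lib.SGn

open Subgroup Cfsg.Lib.Gold Cfsg.Lib.Trans Cfsg.Lib.StdSz Cfsg.Lib.StdW
open Cfsg.Lib.StdM (Cl)
open Cfsg.Lib.StdX (Dih)
open scoped commutatorElement

variable {G H Ω : Type*} [Group G] [Group H] [Group Ω]

/-- basic facts on the model: `T` is a Sylow 2-subgroup of `Γ0`, `z` and `y` represent the two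
classes of involutions -/
structure Bs (Γ Γ0 T : Subgroup Ω) (z y : Ω) (n r : ℕ) : Prop where
  le : Γ0 ≤ Γ
  idx : ∀ x ∈ Γ, ∀ y ∈ Γ, x ∉ Γ0 → y ∉ Γ0 → x * y ∈ Γ0
  simple : IsSimpleGroup Γ0
  aut : ∀ φ : MulAut Γ0, ∃ g ∈ Γ, ∀ x : Γ0, (φ x : Ω) = g * x * g⁻¹
  T0 : T ≤ Γ0
  cardT : Nat.card T = 2 ^ n
  syl : ∀ Q ≤ Γ0, IsPGroup 2 Q → Nat.card Q ≤ 2 ^ n
  n2 : 2 ≤ n
  rn : r ≤ n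
  nr : n + 1 < 2 * r
  zT : z ∈ T
  z2 : z * z = 1
  z1 : z ≠ 1
  zc : z ∈ Cs T
  centT : Γ ⊓ Cs T ≤ zpowers z
  zder : z ∈ ⁅T, T⁆
  yT : y ∈ T
  y2 : y * y = 1
  y1 : y ≠ 1
  cls : ∀ a ∈ Γ0, a * a = 1 → a = 1 ∨ Cl Γ0 z a ∨ Cl Γ0 y a
  ny : ¬ Cl Γ0 z y
  genT : T ≤ closure {a | a ∈ T ∧ a * a = 1}
  derJ : ⁅T, T⁆ ≤ closure {a | a ∈ T ∧ Cl Γ0 z a}
  abC : ∀ a ∈ T ⊓ Cs ⁅T, T⁆, ∀ b ∈ T ⊓ Cs ⁅T, T⁆, Commute a b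
  cder : Γ ⊓ Cs ⁅T, T⁆ ≤ T
  zb : ∃ b ∈ ⁅T, T⁆, b ≠ z ∧ Cl Γ0 z b
  cardR : Nat.card ↥(T ⊓ C1 y) = 2 ^ r
  sylR : ∀ Q ≤ Γ0 ⊓ C1 y, IsPGroup 2 Q → Nat.card Q ≤ 2 ^ r
  genR : T ⊓ C1 y ≤ closure {a | a ∈ T ⊓ C1 y ∧ a * a = 1}
  y4 : ∃ m ∈ T ⊓ C1 y, Cl Γ0 y m ∧ Cl Γ0 y (y * m)
  yz : ∀ a ∈ T, Cl Γ0 y a → Cl Γ0 y (a * z)

/-- facts on the only class of outer involutions -/
structure Ot (Γ Γ0 : Subgroup Ω) (σ : Ω) (r l u : ℕ) : Prop where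
  σΓ : σ ∈ Γ
  σ0 : σ ∉ Γ0
  σ2 : σ * σ = 1
  ocl : ∀ x ∈ Γ, x ∉ Γ0 → x * x = 1 → Cl Γ0 σ x
  low : ∃ Q ≤ Γ0 ⊓ C1 σ, Nat.card Q = 2 ^ l
  up : ∀ Q ≤ Γ ⊓ C1 σ, IsPGroup 2 Q → Nat.card Q ≤ 2 ^ u
  n2 : 2 * u < r + l + 2
  n3 : 2 * u < 2 * r + 1

/-- no outer automorphisms, or one class of outer involutions -/
def OO (Γ Γ0 : Subgroup Ω) (r : ℕ) : Prop := Γ ≤ Γ0 ∨ ∃ σ l u, Ot Γ Γ0 σ r l u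

/-- centralisers of involutions have a large 2-subgroup or a dihedral subgroup of order `2 p` -/
structure DB (Γ Γ0 : Subgroup Ω) (n p l m : ℕ) : Prop where
  pp : p.Prime
  p2 : p ≠ 2
  low : ∀ a ∈ Γ, a * a = 1 → ∃ Q ≤ Γ0 ⊓ C1 a, Nat.card Q = 2 ^ l
  alt : ∀ a ∈ Γ, a * a = 1 → Dih Γ0 p a ∨ ∃ Q ≤ Γ0 ⊓ C1 a, Nat.card Q = 2 ^ m
  bd : ∀ x ∈ Γ, x ≠ 1 → x ^ p = 1 → ∀ Q ≤ Γ ⊓ C1 x, IsPGroup 2 Q → Nat.card Q < 2 ^ l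
  nm : n + 2 < m + l

/-- `t` does not normalise both members of a conjugate of the pair -/
def NN (B : Subgroup G) (t : G) : Prop :=
  ∀ g, t ∈ Ns (cj g B) → t ∈ Ns (cj g (cj t B)) → False

/-- one factor of a product of two Sylow subgroups -/
structure PR (B T B' T' : Subgroup G) (z y : G) (n N : ℕ) : Prop where
  TB : T ≤ B
  cardT : Nat.card T = 2 ^ n
  n2 : 2 ≤ n
  commB : ∀ a ∈ B, ∀ b ∈ B', Commute a b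
  T'B' : T' ≤ B'
  disj : ∀ a ∈ T, a ∈ T' → a = 1
  zT : z ∈ T
  z2 : z * z = 1
  z1 : z ≠ 1
  zc : z ∈ Cs T
  cent : ∀ a ∈ T, a ∈ Cs T → a = 1 ∨ a = z
  yT : y ∈ T
  y2 : y * y = 1
  y1 : y ≠ 1
  cls : ∀ a ∈ T, a * a = 1 → a = 1 ∨ Cl B z a ∨ Cl B y a
  genT : T ≤ closure {a | a ∈ T ∧ a * a = 1}
  derJ : ⁅T, T⁆ ≤ closure {a | a ∈ T ∧ Cl B z a}
  zder : z ∈ ⁅T, T⁆
  abC : ∀ a ∈ T ⊓ Cs ⁅T, T⁆, ∀ b ∈ T ⊓ Cs ⁅T, T⁆, Commute a b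
  cardR : Nat.card ↥(T ⊓ C1 y) = N
  sylR : ∀ Q ≤ B ⊓ C1 y, IsPGroup 2 Q → Nat.card Q ≤ N
  genR : T ⊓ C1 y ≤ closure {a | a ∈ T ⊓ C1 y ∧ a * a = 1}
  y4 : ∃ m ∈ T ⊓ C1 y, Cl B y m ∧ Cl B y (y * m)
  yz : ∀ a ∈ T, Cl B y a → Cl B y (a * z)
  perf : B ≤ ⁅B, B⁆
  zB : z ∉ Cs B

/-- the passage to `C(O) / O` -/
structure Qt (Γ Γ0 : Subgroup Ω) (A O : Subgroup G) (ρ : G → Ω) (t : Cs O) (π : Cs O →* H)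
    (A' : Subgroup H) (ρ' : H → Ω) : Prop where
  sj : Function.Surjective π
  kr : ∀ x, π x = 1 ↔ (x : G) ∈ O
  img : ∀ u, u ∈ A' ↔ ∃ x : Cs O, (x : G) ∈ A ∧ π x = u
  mdl : Mdl Γ Γ0 A' ρ'
  hZ : A' ⊓ Cs A' = ⊥
  st : St A' ⊥ (π t)
  cmp : ∀ x : Cs O, (x : G) ∈ Ns A → ρ' (π x) = ρ x
  cen : ∀ x : Cs O, Commute (π x) (π t) → Commute (x : G) t

/-- `A` is the diagonal of `B × B^t` -/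
def Wr (A : Subgroup G) (t : G) : Prop :=
  ∃ B, Sw B t ∧ (∀ x ∈ B, dg t x ∈ A) ∧ ∀ a ∈ A, ∃ x ∈ B, dg t x = a

theorem OO_eq_1' : type_of% @OO.eq_1 := @OO.eq_1

theorem NN_eq_1' : type_of% @NN.eq_1 := @NN.eq_1

theorem Wr_eq_1' : type_of% @Wr.eq_1 := @Wr.eq_1

end Cfsg.Lib.SGn
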